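import Groth.Agent.S7969
import Groth.Agent.Comod.ExactSeq
import Groth.Agent.HopfSub.Main
import Groth.Agent.HopfPts.Basic
import Groth.Agent.Comod.KerHopf
import Groth.Agent.H85.UnipTest

/-!
# Invariant functions of a normal Hopf ideal
-/

set_option autoImplicit false
universe u

open TensorProduct WithConv

noncomputable section

namespace Groth.Agent.HopfNormal

variable {k : Type u} [Field k] {A : Type u} [CommRing A] [HopfAlgebra k A] (I : Ideal A)

variable (k) in
/-- invariant functions, as a subalgebra -/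
def invAlg : Subalgebra k A :=
  AlgHom.equalizer ((Algebra.TensorProduct.map (AlgHom.id k A) (Ideal.Quotient.mkₐ k I)).comp
    (Bialgebra.comulAlgHom k A)) (Algebra.TensorProduct.includeLeft (R := k) (S := k) (A := A) (B := A ⧸ I))

theorem mem_invAlg {a : A} : a ∈ invAlg k I ↔ a ∈ S7969.inv (k := k) I :=
  (S7969.mem_inv I).symm

theorem mem_iff {a : A} : a ∈ invAlg k I ↔
    Coalgebra.comul (R := k) a - a ⊗ₜ[k] (1 : A) ∈
      LinearMap.range (LinearMap.lTensor A (I.restrictScalars k).subtype) := by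
  have hex : Function.Exact (I.restrictScalars k).subtype (Ideal.Quotient.mkₐ k I).toLinearMap :=
    LinearMap.exact_iff.2 (by
      ext x
      simp [Ideal.Quotient.eq_zero_iff_mem])
  rw [← LinearMap.exact_iff.1 (Module.Flat.lTensor_exact A hex), LinearMap.mem_ker, map_sub, sub_eq_zero,
    LinearMap.lTensor_tmul, AlgHom.toLinearMap_apply, map_one, mem_invAlg, S7969.mem_inv]
  rfl

variable (hI : SGA3.IsNormalHopfIdeal k A I)

/-- formula for the defect in the second factor -/
theorem lTensor_defect {C : Type u} [CommRing C] [Algebra k C]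
    (j : A ⊗[k] (A ⊗[k] (A ⧸ I)) →ₐ[k] C) (x y n : A →ₐ[k] C)
    (hx : ∀ a, j (a ⊗ₜ 1) = x a) (hy : ∀ a, j (1 ⊗ₜ (a ⊗ₜ 1)) = y a)
    (hn : ∀ a, j (1 ⊗ₜ (1 ⊗ₜ Ideal.Quotient.mk I a)) = n a) (z : A ⊗[k] A) :
    j ((S7969.defect (k := k) I).lTensor A z) =
      Algebra.TensorProduct.lift x (toConv y * toConv n).ofConv (fun _ _ => Commute.all _ _) z -
        Algebra.TensorProduct.lift x y (fun _ _ => Commute.all _ _) z := by
  induction z using TensorProduct.induction_on with
  | zero => simp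
  | tmul p q =>
    rw [LinearMap.lTensor_tmul, Algebra.TensorProduct.lift_tmul, Algebra.TensorProduct.lift_tmul,
      S7969.conv_apply]
    simp only [S7969.defect, LinearMap.sub_apply, LinearMap.comp_apply, AlgHom.toLinearMap_apply,
      Algebra.TensorProduct.includeLeft_apply, TensorProduct.tmul_sub, map_sub]
    congr 1
    · induction Coalgebra.comul (R := k) q using TensorProduct.induction_on with
      | zero => simp
      | tmul r s =>
        rw [Algebra.TensorProduct.map_tmul, Algebra.TensorProduct.lift_tmul, ← hx, ← hy, ← hn,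
          ← map_mul, ← map_mul]
        simp
      | add r s hr hs => simp only [map_add, TensorProduct.tmul_add, hr, hs, mul_add]
    · rw [← hx, ← hy, ← map_mul]
      simp
  | add p q hp hq => simp only [map_add, hp, hq]; abel

theorem lTensor_defect_eq_zero {b : A} (hb : b ∈ S7969.inv (k := k) I) {C : Type u} [CommRing C] [Algebra k C]
    (j : A ⊗[k] (A ⊗[k] (A ⧸ I)) →ₐ[k] C) (x y n : A →ₐ[k] C)
    (hx : ∀ a, j (a ⊗ₜ 1) = x a) (hy : ∀ a, j (1 ⊗ₜ (a ⊗ₜ 1)) = y a)
    (hn : ∀ a, j (1 ⊗ₜ (1 ⊗ₜ Ideal.Quotient.mk I a)) = n a) :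
    j ((S7969.defect (k := k) I).lTensor A (Coalgebra.comul (R := k) b)) = 0 := by
  rw [lTensor_defect I j x y n hx hy hn, ← S7969.conv_apply, ← S7969.conv_apply, sub_eq_zero, toConv_ofConv,
    ← mul_assoc]
  exact S7969.inv_apply I hb (toConv x * toConv y).ofConv n fun a ha => by
    rw [← hn, Ideal.Quotient.eq_zero_iff_mem.2 ha, TensorProduct.tmul_zero, TensorProduct.tmul_zero, map_zero]

theorem lTensor_defect_comul {b : A} (hb : b ∈ S7969.inv (k := k) I) :
    (S7969.defect (k := k) I).lTensor A (Coalgebra.comul (R := k) b) = 0 := by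
  let x : A →ₐ[k] A ⊗[k] (A ⊗[k] (A ⧸ I)) := Algebra.TensorProduct.includeLeft
  let y : A →ₐ[k] A ⊗[k] (A ⊗[k] (A ⧸ I)) :=
    (Algebra.TensorProduct.includeRight (A := A) (B := A ⊗[k] (A ⧸ I))).comp
      (Algebra.TensorProduct.includeLeft (S := k) (B := A ⧸ I))
  let n : A →ₐ[k] A ⊗[k] (A ⊗[k] (A ⧸ I)) :=
    ((Algebra.TensorProduct.includeRight (A := A) (B := A ⊗[k] (A ⧸ I))).comp
      (Algebra.TensorProduct.includeRight (A := A) (B := A ⧸ I))).comp (Ideal.Quotient.mkₐ k I)
  exact lTensor_defect_eq_zero (C := A ⊗[k] (A ⊗[k] (A ⧸ I))) I hb (AlgHom.id k _) x y n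
    (fun _ => rfl) (fun _ => rfl) (fun _ => rfl)

include hI in
theorem rTensor_defect_comul {b : A} (hb : b ∈ S7969.inv (k := k) I) :
    (S7969.defect (k := k) I).rTensor A (Coalgebra.comul (R := k) b) = 0 := by
  let x : A →ₐ[k] (A ⊗[k] (A ⧸ I)) ⊗[k] A :=
    (Algebra.TensorProduct.includeLeft (S := k) (B := A)).comp
      (Algebra.TensorProduct.includeLeft (S := k) (B := A ⧸ I))
  let n : A →ₐ[k] (A ⊗[k] (A ⧸ I)) ⊗[k] A :=
    ((Algebra.TensorProduct.includeLeft (S := k) (B := A)).comp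
      (Algebra.TensorProduct.includeRight (A := A) (B := A ⧸ I))).comp (Ideal.Quotient.mkₐ k I)
  let y : A →ₐ[k] (A ⊗[k] (A ⧸ I)) ⊗[k] A := Algebra.TensorProduct.includeRight
  exact S7969.rTensor_defect_eq_zero (C := (A ⊗[k] (A ⧸ I)) ⊗[k] A) I hI hb (AlgHom.id k _) x n y
    (fun _ => rfl) (fun _ => rfl) (fun _ => rfl)

variable [I.IsHopfIdeal k]

include hI in
theorem inv'_apply_eq {b : A} (hb : b ∈ S7969.inv (k := k) I) {C : Type u} [CommRing C] [Algebra k C]
    (x n : A →ₐ[k] C) (hn : ∀ a ∈ I, n a = 0) :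
    GrpdLib.NormalChar.inv' (toConv x * toConv n) b = GrpdLib.NormalChar.inv' (toConv x) b := by
  have e2 : GrpdLib.NormalChar.inv' (toConv x * toConv n) =
      GrpdLib.NormalChar.inv' (toConv n) * GrpdLib.NormalChar.inv' (toConv x) := by
    refine left_inv_eq_right_inv (GrpdLib.NormalChar.inv'_mul _) ?_
    rw [mul_assoc (toConv x), ← mul_assoc (toConv n), GrpdLib.NormalChar.mul_inv', one_mul,
      GrpdLib.NormalChar.mul_inv']
  rw [e2]
  have h := S7969.inv_conj I hI hb ((1 : WithConv (A →ₐ[k] C)).ofConv)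
    (GrpdLib.NormalChar.inv' (toConv n)).ofConv (GrpdLib.NormalChar.inv' (toConv x)).ofConv fun a ha =>
      hn _ (Ideal.IsHopfIdeal.antipode_mem (R := k) ha)
  rw [toConv_ofConv, toConv_ofConv, toConv_ofConv, one_mul, one_mul] at h
  exact h

include hI in
theorem isHopfSubalgebra : SGA3.IsHopfSubalgebra k A (invAlg k I) := by
  refine ⟨fun b hb => ?_, fun b hb => ?_⟩
  · rw [mem_invAlg] at hb
    let D := S7969.defect (k := k) I
    have hex : Function.Exact (S7969.inv (k := k) I).subtype D := LinearMap.exact_subtype_ker_map D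
    obtain ⟨w, hw⟩ := ((Module.Flat.rTensor_exact A hex) _).1 (rTensor_defect_comul I hI hb)
    have hw2 : D.lTensor (S7969.inv (k := k) I) w = 0 := by
      apply Module.Flat.rTensor_preserves_injective_linearMap (M := A ⊗[k] (A ⧸ I))
        (S7969.inv (k := k) I).subtype Subtype.val_injective
      rw [map_zero, ← LinearMap.comp_apply, LinearMap.rTensor_comp_lTensor, ← LinearMap.lTensor_comp_rTensor,
        LinearMap.comp_apply, hw]
      exact lTensor_defect_comul I hb
    obtain ⟨v, hv⟩ := ((Module.Flat.lTensor_exact (S7969.inv (k := k) I) hex) _).1 hw2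
    let e : S7969.inv (k := k) I →ₗ[k] invAlg k I :=
      { toFun := fun x => ⟨x.1, (mem_invAlg I).2 x.2⟩
        map_add' := fun _ _ => rfl
        map_smul' := fun _ _ => rfl }
    refine ⟨TensorProduct.map e e v, ?_⟩
    rw [← hw, ← hv]
    clear hv
    induction v using TensorProduct.induction_on with
    | zero => simp
    | tmul p q => simp [e]
    | add p q hp hq => simp only [map_add, hp, hq]
  · rw [mem_invAlg] at hb ⊢
    rw [S7969.mem_inv]
    let x : A →ₐ[k] A ⊗[k] (A ⧸ I) := Algebra.TensorProduct.includeLeft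
    let n : A →ₐ[k] A ⊗[k] (A ⧸ I) :=
      (Algebra.TensorProduct.includeRight (A := A) (B := A ⧸ I)).comp (Ideal.Quotient.mkₐ k I)
    have hn : ∀ a ∈ I, n a = 0 := fun a ha => by simp [n, Ideal.Quotient.eq_zero_iff_mem.2 ha]
    have e1 : ∀ a, Algebra.TensorProduct.map (AlgHom.id k A) (Ideal.Quotient.mkₐ k I) (Coalgebra.comul (R := k) a) =
        (toConv x * toConv n).ofConv a := by
      intro a
      rw [S7969.conv_apply]
      induction Coalgebra.comul (R := k) a using TensorProduct.induction_on with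
      | zero => simp
      | tmul r s => simp [x, n]
      | add r s hr hs => simp only [map_add, hr, hs]
    rw [e1]
    change GrpdLib.NormalChar.inv' (toConv x * toConv n) b = GrpdLib.NormalChar.inv' (toConv x) b
    exact inv'_apply_eq I hI (C := A ⊗[k] (A ⧸ I)) hb x n hn

theorem augIdealSpan_le : SGA3.augIdealSpan k A (invAlg k I) ≤ I := by
  refine Ideal.span_le.2 fun b ⟨hb, hε⟩ => ?_
  rw [mem_invAlg, S7969.mem_inv] at hb
  have h : ∀ a : A, TensorProduct.lid k (A ⧸ I) ((Coalgebra.counit (R := k) (A := A)).rTensor (A ⧸ I)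
      (Algebra.TensorProduct.map (AlgHom.id k A) (Ideal.Quotient.mkₐ k I) (Coalgebra.comul (R := k) a))) =
      Ideal.Quotient.mk I a := by
    intro a
    have h0 := congrArg (fun z => Ideal.Quotient.mk I (TensorProduct.lid k A z))
      (Coalgebra.rTensor_counit_comul (R := k) a)
    simp only [TensorProduct.lid_tmul, one_smul] at h0
    conv_rhs => rw [← h0]
    induction Coalgebra.comul (R := k) a using TensorProduct.induction_on with
    | zero => simp
    | tmul r s => simp [Algebra.smul_def]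
    | add r s hr hs => simp only [map_add, hr, hs]
  have h2 := h b
  rw [hb, LinearMap.rTensor_tmul, TensorProduct.lid_tmul, hε, zero_smul] at h2
  exact Ideal.Quotient.eq_zero_iff_mem.1 h2.symm

/-- functions invariant under the kernel lie in the Hopf subalgebra -/
theorem inv_le_of_eq {B : Subalgebra k A} (hB : SGA3.IsHopfSubalgebra k A B) (h : I = SGA3.augIdealSpan k A B) :
    invAlg k I = B := by
  classical
  letI := HopfSub.hopfAlgebra hB
  let φ : B →ₐc[k] A := HopfSub.incl hB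
  haveI : Module.FaithfullyFlat B A := HopfSub.faithfullyFlat φ (fun _ => rfl) Subtype.val_injective
  let π : A →ₐc[k] A ⧸ I := Bialgebra.Quotient.mkBialgHom I
  have hker : RingHom.ker (π : A →ₐ[k] A ⧸ I) =
      Ideal.map (φ : B →ₐ[k] A) (RingHom.ker (Bialgebra.counitAlgHom k B)) := by
    refine Eq.trans (Ideal.mk_ker (I := I)) ?_
    rw [h]
    apply le_antisymm
    · exact Ideal.span_le.2 fun b ⟨hb, hε⟩ => Ideal.mem_map_of_mem (φ : B →ₐ[k] A) (x := (⟨b, hb⟩ : B)) hε
    · exact Ideal.map_le_iff_le_comap.2 fun b hb => Ideal.subset_span ⟨b.2, hb⟩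
  apply le_antisymm
  · intro a ha
    rw [mem_invAlg, S7969.mem_inv] at ha
    obtain ⟨q, hq⟩ := Comod.ExactSeq.mem_range_of_rho φ (fun _ => rfl) π hker Ideal.Quotient.mk_surjective a ha
    rw [← hq]
    exact q.2
  · intro b hb
    rw [mem_invAlg, S7969.mem_inv]
    exact Comod.ExactSeq.rho_algebraMap φ (fun _ => rfl) π hker ⟨b, hb⟩

theorem comp_conv3 {C : Type u} [CommRing C] [HopfAlgebra k C] {R R' : Type u} [CommRing R] [CommRing R']
    [Algebra k R] [Algebra k R'] (l : R →ₐ[k] R') (f g h : C →ₐ[k] R) :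
    l.comp (Dyn.conv3 k C f g h) = Dyn.conv3 k C (l.comp f) (l.comp g) (l.comp h) := by
  apply toConv_injective (A := C →ₐ[k] R')
  rw [GrpdLib.NormalChar.toConv_conv3]
  have h3 := congrArg (fun w : WithConv (C →ₐ[k] R) => toConv (l.comp w.ofConv))
    (GrpdLib.NormalChar.toConv_conv3 f g h)
  simp only [AlgHom.comp_convMul_distrib, toConv_ofConv] at h3
  exact h3

theorem conv3_comp {C : Type u} [CommRing C] [HopfAlgebra k C] (φ : C →ₐc[k] A) {R : Type u} [CommRing R]
    [Algebra k R] (f g h : A →ₐ[k] R) :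
    Dyn.conv3 k C (f.comp (φ : C →ₐ[k] A)) (g.comp (φ : C →ₐ[k] A)) (h.comp (φ : C →ₐ[k] A)) =
      (Dyn.conv3 k A f g h).comp (φ : C →ₐ[k] A) := by
  apply toConv_injective (A := C →ₐ[k] R)
  rw [GrpdLib.NormalChar.toConv_conv3]
  have h3 := congrArg (fun w : WithConv (A →ₐ[k] R) => toConv (w.ofConv.comp (φ : C →ₐ[k] A)))
    (GrpdLib.NormalChar.toConv_conv3 f g h)
  simp only [AlgHom.convMul_comp_bialgHom_distrib, toConv_ofConv] at h3
  exact h3.symm

include hI in
/-- the preimage of a normal Hopf ideal is normal -/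
theorem isNormal_comap {C : Type u} [CommRing C] [HopfAlgebra k C] (φ : C →ₐc[k] A) (hφ : Function.Injective φ)
    (J : Ideal C) (hJ : ∀ c, c ∈ J ↔ φ c ∈ I) : SGA3.IsNormalHopfIdeal k C J := by
  intro R _ _ g h hh c hc
  let ψ : C ⧸ J →ₐ[k] A ⧸ I := Ideal.Quotient.liftₐ J ((Ideal.Quotient.mkₐ k I).comp (φ : C →ₐ[k] A))
    fun x hx => Ideal.Quotient.eq_zero_iff_mem.2 ((hJ x).1 hx)
  have hψ : Function.Injective ψ := by
    rw [injective_iff_map_eq_zero]
    intro x hx
    obtain ⟨d, rfl⟩ := Ideal.Quotient.mk_surjective x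
    exact Ideal.Quotient.eq_zero_iff_mem.2 ((hJ d).2 (Ideal.Quotient.eq_zero_iff_mem.1 hx))
  let P : C ⊗[k] (C ⧸ J) →ₐ[k] A ⊗[k] (A ⧸ I) := Algebra.TensorProduct.map (φ : C →ₐ[k] A) ψ
  have hP : Function.Injective P := HopfSub.map_injective (φ : C →ₐ[k] A) ψ hφ hψ
  let g₀ : C →ₐ[k] C ⊗[k] (C ⧸ J) := Algebra.TensorProduct.includeLeft
  let h₀ : C →ₐ[k] C ⊗[k] (C ⧸ J) :=
    (Algebra.TensorProduct.includeRight (A := C) (B := C ⧸ J)).comp (Ideal.Quotient.mkₐ k J)
  let l : C ⊗[k] (C ⧸ J) →ₐ[k] R :=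
    Algebra.TensorProduct.lift g (Ideal.Quotient.liftₐ J h hh) fun _ _ => Commute.all _ _
  have hg : l.comp g₀ = g := AlgHom.ext fun x => by simp [l, g₀]
  have hh' : l.comp h₀ = h := AlgHom.ext fun x => by simp [l, h₀] <;> rfl
  suffices h0 : Dyn.conv3 k C g₀ h₀ (g₀.comp (HopfAlgebra.antipodeAlgHom k C)) c = 0 by
    have h1 := DFunLike.congr_fun (comp_conv3 l g₀ h₀ (g₀.comp (HopfAlgebra.antipodeAlgHom k C))) c
    rw [AlgHom.comp_apply, h0, map_zero, hh', ← AlgHom.comp_assoc, hg] at h1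
    exact h1.symm
  apply hP
  rw [map_zero]
  let G : A →ₐ[k] A ⊗[k] (A ⧸ I) := Algebra.TensorProduct.includeLeft
  let H : A →ₐ[k] A ⊗[k] (A ⧸ I) :=
    (Algebra.TensorProduct.includeRight (A := A) (B := A ⧸ I)).comp (Ideal.Quotient.mkₐ k I)
  have hzero := hI _ G H (fun a ha => by simp [H, Ideal.Quotient.eq_zero_iff_mem.2 ha]) (φ c) ((hJ c).1 hc)
  have eg : P.comp g₀ = G.comp (φ : C →ₐ[k] A) := AlgHom.ext fun x => by
    simp [P, g₀, G]
  have eh : P.comp h₀ = H.comp (φ : C →ₐ[k] A) := AlgHom.ext fun x => by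
    simp [P, h₀, H, ψ] <;> rfl
  have e3 : (G.comp (φ : C →ₐ[k] A)).comp (HopfAlgebra.antipodeAlgHom k C) =
      (G.comp (HopfAlgebra.antipodeAlgHom k A)).comp (φ : C →ₐ[k] A) := AlgHom.ext fun x =>
    congrArg G (Comod.KerHopf.map_antipode φ x).symm
  have h1 := DFunLike.congr_fun (comp_conv3 P g₀ h₀ (g₀.comp (HopfAlgebra.antipodeAlgHom k C))) c
  rw [AlgHom.comp_apply] at h1
  rw [h1, eg, eh, ← AlgHom.comp_assoc, eg, e3, conv3_comp]
  exact hzero

/-- invariants map to invariants -/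
theorem map_mem_invAlg {C : Type u} [CommRing C] [HopfAlgebra k C] (φ : C →ₐc[k] A) (J : Ideal C)
    (hJ : ∀ c ∈ J, φ c ∈ I) {f : C} (hf : f ∈ S7969.inv (k := k) J) : φ f ∈ invAlg k I := by
  rw [mem_invAlg, S7969.mem_inv]
  rw [S7969.mem_inv] at hf
  let ψ : C ⧸ J →ₐ[k] A ⧸ I := Ideal.Quotient.liftₐ J ((Ideal.Quotient.mkₐ k I).comp (φ : C →ₐ[k] A))
    fun x hx => Ideal.Quotient.eq_zero_iff_mem.2 (hJ x hx)
  let P : C ⊗[k] (C ⧸ J) →ₐ[k] A ⊗[k] (A ⧸ I) := Algebra.TensorProduct.map (φ : C →ₐ[k] A) ψ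
  have h1 := congrArg P hf
  rw [show P (f ⊗ₜ[k] (1 : C ⧸ J)) = φ f ⊗ₜ[k] (1 : A ⧸ I) by simp [P]] at h1
  refine Eq.trans ?_ h1
  rw [← CoalgHomClass.map_comp_comul_apply φ f]
  generalize Coalgebra.comul (R := k) f = z
  induction z using TensorProduct.induction_on with
  | zero => simp
  | tmul p q => simp [P, ψ] <;> rfl
  | add p q hp hq => simp only [map_add, hp, hq]

include hI in
/-- a normal Hopf ideal is generated by the augmentation ideal of its invariants -/
theorem eq_augIdealSpan : I = SGA3.augIdealSpan k A (invAlg k I) := by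
  classical
  refine le_antisymm (fun a ha => ?_) (augIdealSpan_le I)
  obtain ⟨C, hC, hCfg, haC⟩ := HopfPts.exists_fg_of_finite (k := k) ({a} : Set A) (Set.finite_singleton a)
  letI := HopfSub.hopfAlgebra hC
  haveI : Algebra.FiniteType k C := (Subalgebra.fg_iff_finiteType C).1 hCfg
  let φ : C →ₐc[k] A := HopfSub.incl hC
  let π : A →ₐc[k] A ⧸ I := Bialgebra.Quotient.mkBialgHom I
  let J : Ideal C := RingHom.ker ((π.comp φ : C →ₐc[k] A ⧸ I) : C →ₐ[k] A ⧸ I)
  haveI : J.IsHopfIdeal k := H85.UnipTest.isHopfIdeal_ker (π.comp φ)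
  have hJ : ∀ c : C, c ∈ J ↔ φ c ∈ I := fun c => RingHom.mem_ker.trans Ideal.Quotient.eq_zero_iff_mem
  have hJn : SGA3.IsNormalHopfIdeal k C J := isNormal_comap I hI φ Subtype.val_injective J hJ
  have hle : J ≤ Ideal.comap (φ : C →+* A) (SGA3.augIdealSpan k A (invAlg k I)) := by
    refine (S7969.le_span_inv J hJn).trans (Ideal.span_le.2 ?_)
    rintro _ ⟨f, hf, rfl⟩
    refine Ideal.subset_span ⟨?_, ?_⟩
    · change φ (f - algebraMap k C (Coalgebra.counit (R := k) f)) ∈ invAlg k I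
      rw [map_sub]
      refine sub_mem (map_mem_invAlg I φ J (fun c hc => (hJ c).1 hc) hf) ?_
      change (algebraMap k C (Coalgebra.counit (R := k) f) : C).1 ∈ invAlg k I
      exact Subalgebra.algebraMap_mem _ _
    · change Coalgebra.counit (R := k) (φ (f - algebraMap k C (Coalgebra.counit (R := k) f))) = 0
      rw [CoalgHomClass.counit_comp_apply, map_sub, Bialgebra.counit_algebraMap, sub_self]
  exact hle ((hJ ⟨a, haC rfl⟩).2 ha)

end Groth.Agent.HopfNormal
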